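import Cfsg.Agent.H134.TD.Sit
import Cfsg.Agent.H378.ExcNear
import Cfsg.Agent.S1063

/-!
# Row `E₆(u)` for the recognition of `³D₄(q)` by spectrum (helper488, for S3478)
-/

set_option autoImplicit false
set_option linter.unusedSectionVars false

namespace Cfsg.Agent.H488.TDRow

open Cfsg Cfsg.Lie
open Cfsg.Agent.H134.TD Cfsg.Agent.H135.TD

/-- `u³ + 1 = q²` : `u = 2`, `q = 3` -/
theorem cube_add_one {p q u : ℕ} (hP : Par p q) (hu : IsPrimePow u) (h : u ^ 3 + 1 = q ^ 2) : u = 2 ∧ q = 3 := by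
  have hq := hP.hq
  obtain ⟨r, f, hr, hf, rfl⟩ := hu
  have hr : r.Prime := Nat.prime_iff.2 hr
  have h1 : (q - 1) * (q + 1) = r ^ (f * 3) := by
    obtain ⟨t, rfl⟩ : ∃ t, q = t + 1 := ⟨q - 1, by omega⟩
    rw [Nat.add_sub_cancel, pow_mul]
    nlinarith
  obtain ⟨a, ha, ha'⟩ := (Nat.dvd_prime_pow hr).1 (h1 ▸ Dvd.intro _ rfl : q - 1 ∣ r ^ (f * 3))
  obtain ⟨b, hb, hb'⟩ := (Nat.dvd_prime_pow hr).1 (h1 ▸ Dvd.intro_left _ rfl : q + 1 ∣ r ^ (f * 3))
  have ha0 : a ≠ 0 := by rintro rfl; rw [pow_zero] at ha'; omega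
  have hb0 : b ≠ 0 := by rintro rfl; rw [pow_zero] at hb'; omega
  have hr2 : r = 2 := by
    have h2 : r ∣ q - 1 := ha' ▸ dvd_pow_self r ha0
    have h3 : r ∣ q + 1 := hb' ▸ dvd_pow_self r hb0
    have h4 : r ∣ 2 := by
      have := Nat.dvd_sub h3 h2
      rwa [show q + 1 - (q - 1) = 2 by omega] at this
    exact (Nat.prime_dvd_prime_iff_eq hr Nat.prime_two).1 h4
  subst hr2
  have ha1 : a = 1 := by
    by_contra hcon
    have h4 : 4 ∣ q - 1 := by rw [ha']; exact (by norm_num : (4 : ℕ) = 2 ^ 2) ▸ pow_dvd_pow 2 (by omega)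
    have hb2 : b ≠ 1 := by rintro rfl; omega
    have h5 : 4 ∣ q + 1 := by rw [hb']; exact (by norm_num : (4 : ℕ) = 2 ^ 2) ▸ pow_dvd_pow 2 (by omega)
    omega
  subst ha1
  have hq3 : q = 3 := by omega
  subst hq3
  refine ⟨?_, rfl⟩
  have h5 : (2 ^ f) ^ 3 = 2 ^ 3 := by omega
  exact Nat.pow_left_injective (by norm_num : (3 : ℕ) ≠ 0) h5

/-- `r ∣ u⁶ + u³ + 1` if `u` has order 9 modulo `r` -/
theorem dvd_phi9 {u r : ℕ} (hr : r.Prime) (hd : orderOf ((u : ℕ) : ZMod r) = 9) : r ∣ u ^ 6 + u ^ 3 + 1 := by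
  have := Fact.mk hr
  rw [← ZMod.natCast_eq_zero_iff]
  push_cast
  have h1 : (u : ZMod r) ^ 9 = 1 := by rw [← hd]; exact pow_orderOf_eq_one _
  have h2 : (u : ZMod r) ^ 3 ≠ 1 := fun h => by
    have := orderOf_dvd_of_pow_eq_one h
    rw [hd] at this
    norm_num at this
  have h3 : ((u : ZMod r) ^ 3 - 1) * ((u : ZMod r) ^ 6 + (u : ZMod r) ^ 3 + 1) = 0 := by
    linear_combination h1
  exact (mul_eq_zero.1 h3).resolve_left (sub_ne_zero.2 h2)

universe v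

/-- **Row `E₆(u)`.** -/
theorem row_E6 {p q : ℕ} {F : Type v} [Field F] [Fintype F] (h : Sit p q ↥(chevE6.group F)) : False := by
  have hP := h.par
  obtain ⟨s, hs, hsn, hs13, hsc⟩ := h.exists_prime
  obtain ⟨u, hu⟩ : ∃ u, Fintype.card F = u := ⟨_, rfl⟩
  have hu' : Nat.card F = u := by rw [Nat.card_eq_fintype_card, hu]
  have hupp : IsPrimePow u := by rw [← hu]; exact FiniteField.isPrimePow_card F
  have hod := (H378.ExcNear.near_E6 F hs hsc).resolve_left (h.not_near hs hsn)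
  rw [hu'] at hod
  have hdN : s ∣ u ^ 6 + u ^ 3 + 1 := dvd_phi9 hs hod
  have hE := H129.CycT.exact_E6_9 (F := F) hu (N := u ^ 6 + u ^ 3 + 1) (by push_cast; ring)
  have hg : Nat.gcd 3 (u - 1) = 1 ∨ Nat.gcd 3 (u - 1) = 3 := (Nat.dvd_prime Nat.prime_three).1 (Nat.gcd_dvd_left _ _)
  rcases hg with hg | hg
  · rw [hg, Nat.div_one] at hE
    have h1 := h.exact hE hs hdN hsn
    have h2 : u ^ 3 + 1 = q ^ 2 := eq_add hP (v := u ^ 3) (by rw [← h1]; ring)
    obtain ⟨hu2, hq3⟩ := cube_add_one hP hupp h2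
    have hcard := S1063.result hu
    subst hu2 hq3
    have h31 : Nat.Prime 31 := by norm_num
    have h3 : 31 ∣ Nat.card ↥(chevE6.group F) := by
      rw [hg, one_mul] at hcard
      rw [hcard]
      norm_num
    rcases h.prime h31 h3 with h4 | h4 | h4
    · unfold H135.TD.mm at h4; norm_num at h4
    · norm_num at h4
    · norm_num at h4
  · rw [hg] at hE
    have h3u : 3 ∣ u - 1 := Nat.gcd_eq_left_iff_dvd.1 hg
    have h3N : 3 ∣ u ^ 6 + u ^ 3 + 1 := by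
      obtain ⟨t, ht⟩ := h3u
      have hu1 : u = 3 * t + 1 := by have := hupp.pos; omega
      rw [hu1]
      refine ⟨243 * t ^ 6 + 486 * t ^ 5 + 405 * t ^ 4 + 189 * t ^ 3 + 54 * t ^ 2 + 9 * t + 1, ?_⟩
      ring
    obtain ⟨N, hN⟩ := h3N
    rw [hN, Nat.mul_div_cancel_left _ (by norm_num)] at hE
    have hsN : s ∣ N := by
      rw [hN] at hdN
      refine ((Nat.Prime.dvd_mul hs).1 hdN).resolve_left fun h3 => ?_
      have := Nat.le_of_dvd (by norm_num) h3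
      omega
    have h1 := h.exact hE hs hsN hsn
    exact ne_three hP (u ^ 3) (by rw [← h1, ← hN]; ring)

end Cfsg.Agent.H488.TDRow
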