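import Cfsg.Agent.H134.TD.Sit
import Cfsg.Agent.H378.TwRows
import Cfsg.Agent.S1066

/-!
# Row `²E₆(u)` for the recognition of `³D₄(q)` by spectrum (helper488, for S3478)
-/

set_option autoImplicit false
set_option linter.unusedSectionVars false

namespace Cfsg.Agent.H488.TDRow

open Cfsg Cfsg.Lie
open Cfsg.Agent.H134.TD Cfsg.Agent.H135.TD

/-- `r ∣ u⁶ - u³ + 1` if `u` has order 18 modulo `r` -/
theorem dvd_phi18 {u r : ℕ} (hu : 1 ≤ u) (hr : r.Prime) (hd : orderOf ((u : ℕ) : ZMod r) = 18) :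
    r ∣ u ^ 3 * (u ^ 3 - 1) + 1 := by
  have := Fact.mk hr
  rw [← ZMod.natCast_eq_zero_iff]
  push_cast [Nat.cast_sub (Nat.one_le_pow 3 u hu)]
  have h1 : (u : ZMod r) ^ 18 = 1 := by rw [← hd]; exact pow_orderOf_eq_one _
  have h2 : (u : ZMod r) ^ 9 ≠ 1 := fun h => by
    have := orderOf_dvd_of_pow_eq_one h
    rw [hd] at this
    norm_num at this
  have h2' : (u : ZMod r) ^ 6 ≠ 1 := fun h => by
    have := orderOf_dvd_of_pow_eq_one h
    rw [hd] at this
    norm_num at this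
  have h3 : ((u : ZMod r) ^ 9 - 1) * ((u : ZMod r) ^ 9 + 1) = 0 := by
    linear_combination h1
  have h4 := (mul_eq_zero.1 h3).resolve_left (sub_ne_zero.2 h2)
  have h5 : ((u : ZMod r) ^ 3 + 1) * ((u : ZMod r) ^ 3 * ((u : ZMod r) ^ 3 - 1) + 1) = 0 := by
    linear_combination h4
  refine (mul_eq_zero.1 h5).resolve_left fun h6 => h2' ?_
  have h7 : (u : ZMod r) ^ 3 = -1 := eq_neg_of_add_eq_zero_left h6
  calc (u : ZMod r) ^ 6 = ((u : ZMod r) ^ 3) ^ 2 := by ring
    _ = 1 := by rw [h7]; ring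

/-- an odd prime divisor of `u⁴ + 1` -/
theorem exists_prime_four {u : ℕ} (hu : 2 ≤ u) : ∃ t : ℕ, t.Prime ∧ t ≠ 2 ∧ t ∣ u ^ 4 + 1 := by
  have h16 : 2 ^ 4 ≤ u ^ 4 := Nat.pow_le_pow_left hu 4
  by_contra hcon
  push Not at hcon
  have h1 : ∀ t : ℕ, t.Prime → t ∣ u ^ 4 + 1 → t = 2 := fun t ht hd => by
    by_contra h2
    exact hcon t ht h2 hd
  have h2 := Nat.eq_prime_pow_of_unique_prime_dvd (n := u ^ 4 + 1) (p := 2) (by omega) fun {t} ht hd => h1 t ht hd
  have h3 : 4 ∣ u ^ 4 + 1 := by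
    rw [h2]
    have h4 : 2 ≤ (u ^ 4 + 1).primeFactorsList.length := by
      by_contra h5
      have h6 : (u ^ 4 + 1).primeFactorsList.length ≤ 1 := by omega
      have h7 : 2 ^ (u ^ 4 + 1).primeFactorsList.length ≤ 2 ^ 1 := Nat.pow_le_pow_right (by norm_num) h6
      omega
    exact (by norm_num : (4 : ℕ) = 2 ^ 2) ▸ pow_dvd_pow 2 h4
  have h4 : (u ^ 4 + 1) % 4 = 0 := Nat.mod_eq_zero_of_dvd h3
  have h5 : u ^ 4 % 4 = ((u % 4) ^ 4) % 4 := by rw [Nat.pow_mod]
  have h6 : u % 4 < 4 := Nat.mod_lt _ (by norm_num)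
  interval_cases hv : u % 4 <;> omega

universe v

/-- **Row `²E₆(u)`.** -/
theorem row_2E6 {p q : ℕ} {K : Type v} [Field K] [Fintype K] {u : ℕ} (hu : IsPrimePow u) (hK : Fintype.card K = u ^ 2)
    (h : Sit p q ↥(twistedE6 K u)) : False := by
  have hP := h.par
  have hu2 := hu.two_le
  have hcard := S1066.result hu hK
  have hn73 := mm_ge hP
  have h8 : 8 ≤ u ^ 3 := by
    calc 8 = 2 ^ 3 := by norm_num
      _ ≤ u ^ 3 := Nat.pow_le_pow_left hu2 3
  by_cases h2 : u = 2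
  · subst h2
    have h1 : H135.TD.mm q ∣ 13 := by
      have h3 := h.mm_dvd_card
      have h4 : Nat.card ↥(twistedE6 K 2) = 13 * (2 ^ 36 * (33 * 63 * 255 * 513 * 315)) := by
        norm_num at hcard ⊢
        omega
      rw [h4] at h3
      refine Nat.Coprime.dvd_of_dvd_mul_right ?_ h3
      refine h.coprime_of fun s hs hsn hsM => ?_
      have h5 := prime_mm hP hs hsn
      have h6 : s ∣ 2 ^ 36 * (3 ^ 9 * 5 ^ 2 * 7 ^ 2 * 11 * 17 * 19) := by
        refine hsM.trans (dvd_of_eq ?_)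
        norm_num
      have key : ∀ r : ℕ, r.Prime → r % 12 ≠ 1 → ∀ k : ℕ, ¬ s ∣ r ^ k := fun r hr hr1 k hk =>
        hr1 (by rw [← (Nat.prime_dvd_prime_iff_eq hs hr).1 (hs.dvd_of_dvd_pow hk)]; exact h5)
      simp only [hs.dvd_mul] at h6
      rcases h6 with h6 | (((((h6 | h6) | h6) | h6) | h6) | h6)
      · exact key 2 (by norm_num) (by norm_num) _ h6
      · exact key 3 (by norm_num) (by norm_num) _ h6
      · exact key 5 (by norm_num) (by norm_num) _ h6
      · exact key 7 (by norm_num) (by norm_num) _ h6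
      · exact key 11 (by norm_num) (by norm_num) 1 (by rw [pow_one]; exact h6)
      · exact key 17 (by norm_num) (by norm_num) 1 (by rw [pow_one]; exact h6)
      · exact key 19 (by norm_num) (by norm_num) 1 (by rw [pow_one]; exact h6)
    have := Nat.le_of_dvd (by norm_num) h1
    omega
  obtain ⟨s, hs, hsn, hs13, hsc⟩ := h.exists_prime
  have hod := ((H378.TwRows.near_2E6 hu hK hs hsc).resolve_left (h.not_near hs hsn)).resolve_right fun h3 => h2 h3.1
  have hdN : s ∣ u ^ 3 * (u ^ 3 - 1) + 1 := dvd_phi18 (by omega) hs hod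
  have hNZ : ((u ^ 3 * (u ^ 3 - 1) + 1 : ℕ) : ℤ) = 1 - (u : ℤ) ^ 3 + (u : ℤ) ^ 6 := by
    push_cast [Nat.cast_sub (show 1 ≤ u ^ 3 by omega)]
    ring
  have hE := H129.CycT.exact_tE6_18 hu hK hNZ
  have hg : Nat.gcd 3 (u + 1) = 1 ∨ Nat.gcd 3 (u + 1) = 3 := (Nat.dvd_prime Nat.prime_three).1 (Nat.gcd_dvd_left _ _)
  obtain ⟨v, hv⟩ : ∃ v, u ^ 3 = v + 1 := ⟨u ^ 3 - 1, by omega⟩
  rcases hg with hg | hg
  · rw [hg, Nat.div_one] at hE
    have h1 := h.exact hE hs hdN hsn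
    have h3 : u ^ 3 = q ^ 2 := by
      refine eq_sub hP (v := u ^ 3) ?_ (by omega)
      rw [← h1, hv, Nat.add_sub_cancel]
      ring
    obtain ⟨t, ht, ht2, htd⟩ := exists_prime_four hu2
    have := Fact.mk ht
    have hz : (u : ZMod t) ^ 4 = -1 := by
      have h4 := (ZMod.natCast_eq_zero_iff (u ^ 4 + 1) t).2 htd
      push_cast at h4
      exact eq_neg_of_add_eq_zero_left h4
    have h2t : (2 : ZMod t) ≠ 0 := by
      have h4 : ((2 : ℕ) : ZMod t) ≠ 0 := fun h5 =>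
        ht2 ((Nat.prime_dvd_prime_iff_eq ht Nat.prime_two).1 ((ZMod.natCast_eq_zero_iff 2 t).1 h5))
      exact_mod_cast h4
    have hu0 : (u : ZMod t) ≠ 0 := fun h4 => by
      rw [h4] at hz
      have : (1 : ZMod t) = 0 := by linear_combination hz
      exact one_ne_zero this
    have hn1 : ∀ m : ℕ, (m = 18 ∨ m = 9) → (u : ZMod t) ^ m ≠ 1 := fun m hm h4 => by
      have h5 : (u : ZMod t) ^ 8 = 1 := by
        calc (u : ZMod t) ^ 8 = ((u : ZMod t) ^ 4) ^ 2 := by ring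
          _ = 1 := by rw [hz]; ring
      have h6 : orderOf (u : ZMod t) ∣ 2 := by
        have h7 := Nat.dvd_gcd (orderOf_dvd_of_pow_eq_one h4) (orderOf_dvd_of_pow_eq_one h5)
        rcases hm with rfl | rfl
        · exact h7
        · exact h7.trans (by norm_num)
      have h7 : (u : ZMod t) ^ 2 = 1 := orderOf_dvd_iff_pow_eq_one.1 h6
      apply h2t
      have h8 : (u : ZMod t) ^ 4 = 1 := by
        calc (u : ZMod t) ^ 4 = ((u : ZMod t) ^ 2) ^ 2 := by ring
          _ = 1 := by rw [h7]; ring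
      linear_combination hz - h8
    have htc : t ∣ Nat.card ↥(twistedE6 K u) := by
      have h4 : t ∣ u ^ 8 - 1 := by
        have h5 : u ^ 8 - 1 = (u ^ 4 + 1) * (u ^ 4 - 1) := by
          have := Nat.sq_sub_sq (u ^ 4) 1
          rw [← pow_mul] at this
          simpa using this
        rw [h5]
        exact htd.mul_right _
      rw [hg, one_mul] at hcard
      rw [hcard]
      exact ((h4.mul_left _).mul_right _).mul_right _
    rcases h.prime ht htc with h4 | h4 | h4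
    · -- `t ∣ n ∣ u⁹ + 1`
      rw [← h1] at h4
      have h5 := (ZMod.natCast_eq_zero_iff _ t).2 h4
      push_cast [Nat.cast_sub (show 1 ≤ u ^ 3 by omega)] at h5
      apply hn1 18 (Or.inl rfl)
      have h6 : (u : ZMod t) ^ 9 = -1 := by
        have : ((u : ZMod t) ^ 3 + 1) * ((u : ZMod t) ^ 3 * ((u : ZMod t) ^ 3 - 1) + 1) = 0 := by rw [h5, mul_zero]
        linear_combination this
      calc (u : ZMod t) ^ 18 = ((u : ZMod t) ^ 9) ^ 2 := by ring
        _ = 1 := by rw [h6]; ring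
    · -- `t ∣ q`
      have h5 : t ∣ u ^ 3 := by rw [h3]; exact dvd_pow h4 two_ne_zero
      have h6 := ht.dvd_of_dvd_pow h5
      exact hu0 ((ZMod.natCast_eq_zero_iff u t).2 h6)
    · -- `t ∣ q⁶ - 1 = u⁹ - 1`
      have h5 : q ^ 6 = u ^ 9 := by
        calc q ^ 6 = (q ^ 2) ^ 3 := by ring
          _ = u ^ 9 := by rw [← h3]; ring
      rw [h5] at h4
      have h6 := (ZMod.natCast_eq_zero_iff _ t).2 h4
      rw [Nat.cast_sub (Nat.one_le_pow _ _ (by omega))] at h6
      push_cast at h6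
      exact hn1 9 (Or.inr rfl) (sub_eq_zero.1 h6)
  · rw [hg] at hE
    have h3u : 3 ∣ u + 1 := Nat.gcd_eq_left_iff_dvd.1 hg
    have h3N : 3 ∣ u ^ 3 * (u ^ 3 - 1) + 1 := by
      rw [← Int.natCast_dvd_natCast, hNZ]
      obtain ⟨t, ht⟩ := h3u
      have hu1 : (u : ℤ) = 3 * t - 1 := by omega
      rw [hu1]
      refine ⟨243 * t ^ 6 - 486 * t ^ 5 + 405 * t ^ 4 - 189 * t ^ 3 + 54 * t ^ 2 - 9 * t + 1, ?_⟩
      push_cast
      ring
    obtain ⟨N, hN⟩ := h3N
    rw [hN, Nat.mul_div_cancel_left _ (by norm_num)] at hE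
    have hsN : s ∣ N := by
      rw [hN] at hdN
      refine ((Nat.Prime.dvd_mul hs).1 hdN).resolve_left fun h3 => ?_
      have := Nat.le_of_dvd (by norm_num) h3
      omega
    have h1 := h.exact hE hs hsN hsn
    refine ne_three hP v ?_
    rw [← h1, ← hN, hv, Nat.add_sub_cancel]
    ring

end Cfsg.Agent.H488.TDRow
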